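import Cfsg.Agent.Lib.Ree3.Data
import Cfsg.Agent.Lib.G23.Checks
import Cfsg.Prelude.Def_LieTwisted

/-!
Kernel checks for the derived subgroup of `²G₂(3)`.
-/

set_option autoImplicit false
set_option Elab.async false
set_option maxRecDepth 100000

namespace CfsgLib.Ree3

open Matrix Cfsg.Lie
open CfsgLib.G23 (el dg)

/-- The field with eight elements. -/
structure C where
  code : Fin 8
deriving DecidableEq

namespace C

/-- The code `n` modulo 8. -/
def mk' (n : ℕ) : C := ⟨⟨n % 8, Nat.mod_lt _ (by decide)⟩⟩

instance : Fintype C :=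
  Fintype.ofEquiv (Fin 8) ⟨C.mk, C.code, fun _ => rfl, fun _ => rfl⟩

instance : Zero C := ⟨mk' 0⟩
instance : One C := ⟨mk' 1⟩
instance : Add C := ⟨fun a b => mk' (a.code.val ^^^ b.code.val)⟩
instance : Mul C := ⟨fun a b => mk' (mulTab >>> (4 * (8 * a.code.val + b.code.val)))⟩
instance : Neg C := ⟨fun a => a⟩
instance : Inv C := ⟨fun a => mk' (invTab >>> (4 * a.code.val))⟩
instance : NatCast C := ⟨fun n => if n % 2 = 0 then 0 else 1⟩
instance : IntCast C := ⟨fun n => if n % 2 = 0 then 0 else 1⟩

instance : CommRing C where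
  add_assoc := by decide +kernel
  zero_add := by decide +kernel
  add_zero := by decide +kernel
  nsmul := nsmulRec
  zsmul := zsmulRec
  neg_add_cancel := by decide +kernel
  add_comm := by decide +kernel
  mul_assoc := by decide +kernel
  one_mul := by decide +kernel
  mul_one := by decide +kernel
  left_distrib := by decide +kernel
  right_distrib := by decide +kernel
  zero_mul := by decide +kernel
  mul_zero := by decide +kernel
  mul_comm := by decide +kernel
  natCast_zero := rfl
  natCast_succ := fun n => by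
    show (if (n + 1) % 2 = 0 then (0 : C) else 1) = (if n % 2 = 0 then (0 : C) else 1) + 1
    by_cases h : n % 2 = 0
    · rw [if_pos h, if_neg (by omega)]; rfl
    · rw [if_neg h, if_pos (by omega)]; rfl
  intCast_ofNat := fun n => by
    show (if (n : ℤ) % 2 = 0 then (0 : C) else 1) = if n % 2 = 0 then (0 : C) else 1
    by_cases h : n % 2 = 0
    · rw [if_pos h, if_pos (by omega)]
    · rw [if_neg h, if_neg (by omega)]
  intCast_negSucc := fun n => by
    show (if (Int.negSucc n) % 2 = 0 then (0 : C) else 1) = if (n + 1) % 2 = 0 then (0 : C) else 1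
    by_cases h : (n + 1) % 2 = 0
    · rw [if_pos h, if_pos (by omega)]
    · rw [if_neg h, if_neg (by omega)]

instance : Field C where
  exists_pair_ne := ⟨0, 1, by decide +kernel⟩
  mul_inv_cancel := by decide +kernel
  inv_zero := by decide +kernel
  nnqsmul := _
  qsmul := _

theorem card_eq : Fintype.card C = 8 := by decide +kernel

end C

abbrev M7 := Matrix (Fin 7) (Fin 7) (ZMod 3)
abbrev M2 := Matrix (Fin 2) (Fin 2) C

/-- Element `i`. -/
def mat (i : ℕ) : M7 := CfsgLib.G23.dec (elems.getD i [])

/-- Partner of element `i`. -/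
def mat2 (i : ℕ) : M2 :=
  let n := partner.getD i 0
  !![C.mk' n, C.mk' (n / 8); C.mk' (n / 64), C.mk' (n / 512)]

/-- Product of coded matrices. -/
def mulC3 (A B : List ℕ) : List ℕ :=
  A.map fun a => (List.range 7).foldr (fun j s =>
    ((List.range 7).foldr (fun k t => dg a k * dg (B.getD k 0) j + t) 0) % 3 + 3 * s) 0

def row (i : ℕ) : List ℕ := elems.getD i []

def genA : ℕ := stepA.getD 0 0
def genB : ℕ := stepB.getD 0 0

theorem step_ok : ((List.range 504).all fun i =>
    (row i).length == 7 && (row i).all (fun a => Nat.blt a 2187) &&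
    Nat.blt (stepA.getD i 0) 504 && Nat.blt (stepB.getD i 0) 504 &&
    mulC3 (row genA) (row i) == row (stepA.getD i 0) &&
    mulC3 (row genB) (row i) == row (stepB.getD i 0)) = true := by decide +kernel

theorem zero_ok : row 0 = [1, 3, 9, 27, 81, 243, 729] ∧ mat2 0 = 1 ∧ genA < 504 ∧ genB < 504 := by
  decide +kernel

theorem parent_ok : ((List.range 504).all fun i => i == 0 ||
    (let p := parent.getD i (false, 0)
     Nat.blt p.2 i && (if p.1 then stepB.getD p.2 0 else stepA.getD p.2 0) == i)) = true := by
  decide +kernel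

theorem nodup_ok : (elems.Nodup ∧ partner.Nodup) ∧ elems.length = 504 ∧ partner.length = 504 ∧
    (partner.all fun n => Nat.blt n 4096) = true := by decide +kernel

theorem step2A : ∀ i : Fin 504, mat2 genA * mat2 i = mat2 (stepA.getD i 0) := by decide +kernel

theorem step2B : ∀ i : Fin 504, mat2 genB * mat2 i = mat2 (stepB.getD i 0) := by decide +kernel

theorem det_ok : ∀ i : Fin 504, mat2 i 0 0 * mat2 i 1 1 - mat2 i 0 1 * mat2 i 1 0 = 1 := by decide +kernel

/-- Parameters of generating word `n`. -/
def params (n : ℕ) : Bool × ZMod 3 × ZMod 3 × ZMod 3 :=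
  (decide (27 ≤ n), el (n % 27 / 9), el (n % 9 / 3), el (n % 3))

/-- Generating word `n`. -/
def gword (n : ℕ) : List (ℕ × ZMod 3) :=
  match params n with
  | (b, t, u, v) => if b then reeWordV 1 t u v else reeWordU 1 t u v

/-- The value of a word. -/
def wordP (w : List (ℕ × ZMod 3)) : M7 := w.foldr (fun e A => CfsgLib.G23.rootM e.1 e.2 * A) 1

def wm (n : ℕ) : M7 := wordP (gword n)

theorem word_ok : ∀ n : Fin 54, ∀ e ∈ gword n, e.1 < chevG2.nroots := by decide +kernel

theorem params_surj : ∀ t u v : ZMod 3,
    reeWordU 1 t u v = gword (9 * t.val + 3 * u.val + v.val) ∧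
    reeWordV 1 t u v = gword (27 + (9 * t.val + 3 * u.val + v.val)) := by decide +kernel

theorem comA_ok : comA.1 < 54 ∧ comA.2 < 54 ∧
    mat genA * (wm comA.2 * wm comA.1) = wm comA.1 * wm comA.2 := by decide +kernel

theorem comB_ok : comB.1 < 54 ∧ comB.2 < 54 ∧
    mat genB * (wm comB.2 * wm comB.1) = wm comB.1 * wm comB.2 := by decide +kernel

theorem conj_ok : outer < 54 ∧ conjA < 504 ∧ conjB < 504 ∧
    wm outer * mat genA = mat conjA * wm outer ∧ wm outer * mat genB = mat conjB * wm outer := by
  decide +kernel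

theorem witness_ok : ∀ n : Fin 54, (witness.getD n (0, 0)).1 < 504 ∧
    (let q := witness.getD n (0, 0)
     wm n = if q.2 = 0 then mat q.1 else if q.2 = 1 then mat q.1 * wm outer
      else mat q.1 * (wm outer * wm outer)) := by decide +kernel

end CfsgLib.Ree3
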