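import Cfsg.Agent.Lib.Ree3.Checks
import Cfsg.Agent.Lib.G23.Rep
import Cfsg.Agent.Lib.SLCard

/-!
`²G₂(3)' ≅ L₂(8)`.
-/

set_option autoImplicit false

namespace CfsgLib.Ree3

open Matrix Cfsg.Lie
open scoped commutatorElement

theorem twisted_le : twistedG2 (ZMod 3) 1 ≤ chevG2.group (ZMod 3) := by
  have hw : ∀ w : List (ℕ × ZMod 3), ∃ x : GL chevG2.Idx (ZMod 3),
      x ∈ chevG2.group (ZMod 3) ∧ (x : Matrix chevG2.Idx chevG2.Idx (ZMod 3)) = chevG2.wordMat (ZMod 3) w := by
    intro w
    induction w with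
    | nil => exact ⟨1, one_mem _, rfl⟩
    | cons e w ih =>
      obtain ⟨x, hx, hxv⟩ := ih
      by_cases h : e.1 < chevG2.nroots
      · let u : GL chevG2.Idx (ZMod 3) :=
          ⟨chevG2.xMat (ZMod 3) ⟨e.1, h⟩ e.2, chevG2.xMat (ZMod 3) ⟨e.1, h⟩ (-e.2),
            CfsgLib.G23.xMat_inverse _ _,
            by have := CfsgLib.G23.xMat_inverse ⟨e.1, h⟩ (-e.2); rwa [neg_neg] at this⟩
        refine ⟨u * x, mul_mem (Subgroup.subset_closure ⟨_, e.2, rfl⟩) hx, ?_⟩
        rw [Units.val_mul, hxv]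
        simp [ChevalleyDatum.wordMat, ChevalleyDatum.x, h, u]
      · refine ⟨x, hx, ?_⟩
        rw [hxv]
        simp [ChevalleyDatum.wordMat, ChevalleyDatum.x, h]
  rw [twistedG2, ChevalleyDatum.genSubgroup, Subgroup.closure_le]
  rintro g ⟨w, -, hg⟩
  obtain ⟨x, hx, hxv⟩ := hw w
  rwa [show g = x from Units.ext (hg.trans hxv.symm)]

abbrev E := ↥(twistedG2 (ZMod 3) 1)

/-- The seven-dimensional representation. -/
noncomputable def rep7 : E →* M7 := CfsgLib.G23.rep.comp (Subgroup.inclusion twisted_le)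

theorem rep7_injective : Function.Injective rep7 :=
  CfsgLib.G23.rep_injective.comp (Subgroup.inclusion_injective twisted_le)

theorem wordMat_good : ∀ (w : List (ℕ × ZMod 3)), (∀ e ∈ w, e.1 < chevG2.nroots) →
    CfsgLib.G23.Good (chevG2.wordMat (ZMod 3) w) ∧
      (chevG2.wordMat (ZMod 3) w).submatrix CfsgLib.G23.idx CfsgLib.G23.idx = wordP w := by
  intro w
  induction w with
  | nil => intro _; exact ⟨CfsgLib.G23.good_one, CfsgLib.G23.submatrix_one'⟩
  | cons e w ih =>
    intro hw
    obtain ⟨hg, hs⟩ := ih fun d hd => hw d (List.mem_cons_of_mem _ hd)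
    have h : chevG2.wordMat (ZMod 3) (e :: w) =
        chevG2.xMat (ZMod 3) ⟨e.1, hw e List.mem_cons_self⟩ e.2 * chevG2.wordMat (ZMod 3) w := by
      simp [ChevalleyDatum.wordMat, ChevalleyDatum.x, hw e List.mem_cons_self]
    rw [h]
    refine ⟨CfsgLib.G23.good_mul (CfsgLib.G23.good_gen _ _) hg, ?_⟩
    rw [CfsgLib.G23.submatrix_mul' hg.1, hs, CfsgLib.G23.block_eq]
    rfl

theorem mem_words (n : ℕ) : gword n ∈ g2Words (ZMod 3) 1 := by
  rcases hp : params n with ⟨b, t, u, v⟩
  refine ⟨t, u, v, ?_⟩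
  cases b
  · left; simp [gword, hp]
  · right; simp [gword, hp]

theorem gen_exists (n : Fin 54) : ∃ g : E, rep7 g = wm n ∧
    ((g : GL chevG2.Idx (ZMod 3)) : Matrix chevG2.Idx chevG2.Idx (ZMod 3)) =
      chevG2.wordMat (ZMod 3) (gword n) := by
  have hmem := mem_words n.val
  obtain ⟨x, hx⟩ : IsUnit (chevG2.wordMat (ZMod 3) (gword n.val)) := by
    have : ∀ w : List (ℕ × ZMod 3), IsUnit (chevG2.wordMat (ZMod 3) w) := by
      intro w
      induction w with
      | nil => exact isUnit_one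
      | cons e w ih =>
        simp only [ChevalleyDatum.wordMat, List.map_cons, List.prod_cons]
        refine IsUnit.mul ?_ ih
        by_cases h : e.1 < chevG2.nroots
        · simp only [ChevalleyDatum.x, h, dite_true]
          exact ⟨⟨_, chevG2.xMat (ZMod 3) ⟨e.1, h⟩ (-e.2), CfsgLib.G23.xMat_inverse _ _,
            by have := CfsgLib.G23.xMat_inverse ⟨e.1, h⟩ (-e.2); rwa [neg_neg] at this⟩, rfl⟩
        · simp [ChevalleyDatum.x, h]
    exact this _
  refine ⟨⟨x, Subgroup.subset_closure ⟨_, hmem, hx⟩⟩, ?_, hx⟩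
  show (x : Matrix chevG2.Idx chevG2.Idx (ZMod 3)).submatrix CfsgLib.G23.idx CfsgLib.G23.idx = _
  rw [hx]
  exact (wordMat_good _ (word_ok n)).2

theorem mulC3_eq {i k : ℕ} (hi : (row i).length = 7) (hg : (row k).length = 7)
    {j : ℕ} (h : mulC3 (row k) (row i) = row j) : mat k * mat i = mat j := by
  have hd : ∀ (f : ℕ → ℕ) (n : ℕ), (∀ b, f b < 3) → ∀ b < n,
      CfsgLib.G23.dg ((List.range n).foldr (fun b s => f b + 3 * s) 0) b = f b := by
    intro f n hf
    induction n generalizing f with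
    | zero => intro b hb; omega
    | succ n ih =>
      intro b hb
      rw [List.range_succ_eq_map, List.foldr_cons, List.foldr_map]
      cases b with
      | zero => exact CfsgLib.G23.dg_zero _ (hf 0)
      | succ b =>
        rw [CfsgLib.G23.dg_succ _ _ (hf 0)]
        exact ih (fun b => f (b + 1)) (fun b => hf _) b (by omega)
  ext a b
  simp only [mat, CfsgLib.G23.dec, Matrix.mul_apply, Matrix.of_apply]
  change ∑ x : Fin 7, CfsgLib.G23.el (CfsgLib.G23.dg ((row k).getD a.val 0) x.val) *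
    CfsgLib.G23.el (CfsgLib.G23.dg ((row i).getD x.val 0) b.val) =
    CfsgLib.G23.el (CfsgLib.G23.dg ((row j).getD a.val 0) b.val)
  rw [← h]
  have ha : a.val < (row k).length := by omega
  rw [show (mulC3 (row k) (row i)).getD a.val 0 = (List.range 7).foldr (fun j s =>
      ((List.range 7).foldr (fun x t => CfsgLib.G23.dg ((row k).getD a.val 0) x *
        CfsgLib.G23.dg ((row i).getD x 0) j + t) 0) % 3 + 3 * s) 0 by
    simp [mulC3, List.getD_eq_getElem?_getD, List.getElem?_eq_getElem ha]]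
  rw [hd _ 7 (fun _ => Nat.mod_lt _ (by norm_num)) b.val b.2, CfsgLib.G23.el_eq_cast, ZMod.natCast_mod]
  simp [List.range_succ, Fin.sum_univ_seven, CfsgLib.G23.el_eq_cast]
  ring

theorem row_facts {i : ℕ} (hi : i < 504) : (row i).length = 7 ∧ (∀ a ∈ row i, a < 2187) ∧
    stepA.getD i 0 < 504 ∧ stepB.getD i 0 < 504 ∧
    mulC3 (row genA) (row i) = row (stepA.getD i 0) ∧ mulC3 (row genB) (row i) = row (stepB.getD i 0) := by
  have h := List.all_eq_true.mp step_ok i (List.mem_range.mpr hi)
  simp only [Bool.and_eq_true, beq_iff_eq, List.all_eq_true, Nat.blt_eq] at h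
  obtain ⟨⟨⟨⟨⟨h1, h2⟩, h3⟩, h4⟩, h5⟩, h6⟩ := h
  exact ⟨h1, h2, h3, h4, h5, h6⟩

theorem stepA_eq {i : ℕ} (hi : i < 504) : mat genA * mat i = mat (stepA.getD i 0) :=
  mulC3_eq (row_facts hi).1 (row_facts zero_ok.2.2.1).1 (row_facts hi).2.2.2.2.1

theorem stepB_eq {i : ℕ} (hi : i < 504) : mat genB * mat i = mat (stepB.getD i 0) :=
  mulC3_eq (row_facts hi).1 (row_facts zero_ok.2.2.2).1 (row_facts hi).2.2.2.2.2

theorem mat_zero : mat 0 = 1 := by
  have h := zero_ok.1
  simp only [row] at h
  rw [mat, h]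
  decide +kernel

theorem mat_inj {i j : ℕ} (hi : i < 504) (hj : j < 504) (h : mat i = mat j) : i = j := by
  have hd : ∀ n, ∀ a < 3 ^ n, ∀ b < 3 ^ n,
      (∀ k < n, CfsgLib.G23.dg a k = CfsgLib.G23.dg b k) → a = b := by
    intro n
    induction n with
    | zero => intro a ha b hb _; omega
    | succ n ih =>
      intro a ha b hb hk
      have h0 := hk 0 (Nat.succ_pos _)
      simp only [CfsgLib.G23.dg, pow_zero, Nat.div_one] at h0
      rw [pow_succ] at ha hb
      have := ih (a / 3) (by omega) (b / 3) (by omega) fun k hkn => by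
        have := hk (k + 1) (by omega)
        simpa [CfsgLib.G23.dg, pow_succ', Nat.div_div_eq_div_mul] using this
      omega
  obtain ⟨hl, hb, -⟩ := row_facts hi
  obtain ⟨hl', hb', -⟩ := row_facts hj
  have he : row i = row j := by
    refine List.ext_getElem (by omega) fun a ha ha' => ?_
    refine hd 7 _ (hb _ (List.getElem_mem ha)) _ (hb' _ (List.getElem_mem ha')) fun k hk => ?_
    have := congrFun (congrFun h ⟨a, by omega⟩) ⟨k, hk⟩
    simp only [mat, CfsgLib.G23.dec, Matrix.of_apply] at this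
    change CfsgLib.G23.el (CfsgLib.G23.dg ((row i).getD a 0) k) =
      CfsgLib.G23.el (CfsgLib.G23.dg ((row j).getD a 0) k) at this
    rw [CfsgLib.G23.el_eq_cast, CfsgLib.G23.el_eq_cast, ZMod.natCast_eq_natCast_iff',
      List.getD_eq_getElem _ _ ha, List.getD_eq_getElem _ _ ha'] at this
    simpa [CfsgLib.G23.dg] using this
  simp only [row] at he
  rw [List.getD_eq_getElem _ _ (by rw [nodup_ok.2.1]; exact hi),
    List.getD_eq_getElem _ _ (by rw [nodup_ok.2.1]; exact hj)] at he
  exact (nodup_ok.1.1.getElem_inj_iff).mp he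

theorem mat2_inj {i j : ℕ} (hi : i < 504) (hj : j < 504) (h : mat2 i = mat2 j) : i = j := by
  obtain ⟨⟨-, hnd⟩, -, hl, hb⟩ := nodup_ok
  simp only [List.all_eq_true, Nat.blt_eq] at hb
  have hi' : i < partner.length := by omega
  have hj' : j < partner.length := by omega
  have e : ∀ a b, C.mk' a = C.mk' b → a % 8 = b % 8 := fun a b h =>
    congrArg (fun c : C => c.code.val) h
  have e00 := e _ _ (congrFun (congrFun h 0) 0)
  have e01 := e _ _ (congrFun (congrFun h 0) 1)
  have e10 := e _ _ (congrFun (congrFun h 1) 0)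
  have e11 := e _ _ (congrFun (congrFun h 1) 1)
  rw [List.getD_eq_getElem _ _ hi', List.getD_eq_getElem _ _ hj'] at e00 e01 e10 e11
  have := hb _ (List.getElem_mem hi')
  have := hb _ (List.getElem_mem hj')
  exact (hnd.getElem_inj_iff).mp (show partner[i] = partner[j] by omega)

theorem map_commutator_eq {G : Type*} [Group G] {R : Type*} [Monoid R] (f : G →* R) (x y : G)
    {M : R} (h : M * (f y * f x) = f x * f y) : f ⁅x, y⁆ = M := by
  have hu : IsUnit (f y * f x) := by rw [← map_mul]; exact (Group.isUnit _).map f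
  refine hu.mul_right_cancel ?_
  rw [h, ← map_mul, ← map_mul, ← map_mul, commutatorElement_def]
  congr 1
  group

theorem conj_of_semiconj {G : Type*} [Group G] {R : Type*} [Monoid R] (f : G →* R) (c x : G)
    {M : R} (h : f c * f x = M * f c) : f (c * x * c⁻¹) = M := by
  refine ((Group.isUnit c).map f).mul_right_cancel ?_
  rw [← h, ← map_mul, ← map_mul]
  congr 1
  group

theorem card_SL2 {L : Type*} [Field L] [Fintype L] (hL : Fintype.card L = 8) :
    Nat.card (Matrix.SpecialLinearGroup (Fin 2) L) ≤ 504 := by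
  rw [CfsgLib.SLCard.card_SL_two, hL]
  norm_num

set_option maxHeartbeats 1600000 in
theorem main {L : Type*} [Field L] [Fintype L] (hL : Fintype.card L = 8) :
    Nat.card ↥(commutator E) = 504 ∧
      Nonempty (↥(commutator E) ≃* Matrix.ProjectiveSpecialLinearGroup (Fin 2) L) := by
  classical
  let φ : C ≃+* L := FiniteField.ringEquivOfCardEq (by rw [hL, C.card_eq])
  haveI : Finite E := Finite.of_injective _ rep7_injective
  choose g hg _ using gen_exists
  obtain ⟨hA1, hA2, hA⟩ := comA_ok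
  obtain ⟨hB1, hB2, hB⟩ := comB_ok
  have hcom : ∀ (x y : E) (M : M7), M * (rep7 y * rep7 x) = rep7 x * rep7 y → rep7 ⁅x, y⁆ = M :=
    fun x y M h => map_commutator_eq rep7 x y h
  set a0 : E := ⁅g ⟨_, hA1⟩, g ⟨_, hA2⟩⁆ with ha0
  set b0 : E := ⁅g ⟨_, hB1⟩, g ⟨_, hB2⟩⁆ with hb0
  have ha : rep7 a0 = mat genA := hcom _ _ _ (by rw [hg, hg]; exact hA)
  have hb : rep7 b0 = mat genB := hcom _ _ _ (by rw [hg, hg]; exact hB)
  let sl : Fin 504 → Matrix.SpecialLinearGroup (Fin 2) L := fun i =>
    ⟨(mat2 i).map φ, by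
      rw [Matrix.det_fin_two]
      simp only [Matrix.map_apply]
      rw [← map_mul, ← map_mul, ← map_sub, det_ok i, map_one]⟩
  let pa : E × Matrix.SpecialLinearGroup (Fin 2) L := (a0, sl ⟨genA, zero_ok.2.2.1⟩)
  let pb : E × Matrix.SpecialLinearGroup (Fin 2) L := (b0, sl ⟨genB, zero_ok.2.2.2⟩)
  set S := Subgroup.closure ({pa, pb} : Set (E × Matrix.SpecialLinearGroup (Fin 2) L)) with hS
  let P : ℕ → (E × Matrix.SpecialLinearGroup (Fin 2) L) → Prop := fun i p =>
    rep7 p.1 = mat i ∧ (p.2 : Matrix (Fin 2) (Fin 2) L) = (mat2 i).map φ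
  have hP1 : P 0 1 := ⟨by rw [Prod.fst_one, map_one, mat_zero],
    by rw [Prod.snd_one, zero_ok.2.1, Matrix.map_one _ (map_zero φ) (map_one φ)]; rfl⟩
  have hPA : ∀ i < 504, ∀ p, P i p → P (stepA.getD i 0) (pa * p) := fun i hi p hp =>
    ⟨by rw [Prod.fst_mul, map_mul, hp.1, ha, stepA_eq hi], by
      rw [Prod.snd_mul, Matrix.SpecialLinearGroup.coe_mul, hp.2,
        show ((pa.2 : Matrix.SpecialLinearGroup (Fin 2) L) : Matrix (Fin 2) (Fin 2) L) = (mat2 genA).map φ from rfl]
      rw [← step2A ⟨i, hi⟩]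
      exact (Matrix.map_mul (f := (φ : C →+* L))).symm⟩
  have hPB : ∀ i < 504, ∀ p, P i p → P (stepB.getD i 0) (pb * p) := fun i hi p hp =>
    ⟨by rw [Prod.fst_mul, map_mul, hp.1, hb, stepB_eq hi], by
      rw [Prod.snd_mul, Matrix.SpecialLinearGroup.coe_mul, hp.2,
        show ((pb.2 : Matrix.SpecialLinearGroup (Fin 2) L) : Matrix (Fin 2) (Fin 2) L) = (mat2 genB).map φ from rfl]
      rw [← step2B ⟨i, hi⟩]
      exact (Matrix.map_mul (f := (φ : C →+* L))).symm⟩
  have hin : ∀ p ∈ S, ∃ i < 504, P i p := by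
    intro p hp
    rw [hS, ← Subgroup.mem_toSubmonoid, Subgroup.closure_toSubmonoid_of_finite] at hp
    induction hp using Submonoid.closure_induction_left with
    | one => exact ⟨0, by norm_num, hP1⟩
    | mul_left x hx y _ ih =>
      obtain ⟨i, hi, hy⟩ := ih
      rcases hx with rfl | rfl
      · exact ⟨_, (row_facts hi).2.2.1, hPA i hi y hy⟩
      · exact ⟨_, (row_facts hi).2.2.2.1, hPB i hi y hy⟩
  have hreach : ∀ i < 504, ∃ p ∈ S, P i p := by
    intro i
    induction i using Nat.strong_induction_on with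
    | _ i ih =>
      intro hi
      have h := List.all_eq_true.mp parent_ok i (List.mem_range.mpr hi)
      simp only [Bool.or_eq_true, beq_iff_eq, Bool.and_eq_true, Nat.blt_eq] at h
      rcases h with rfl | ⟨hlt, he⟩
      · exact ⟨1, one_mem _, hP1⟩
      · obtain ⟨p, hp, hPp⟩ := ih _ hlt (by omega)
        cases hb' : (parent.getD i (false, 0)).1
        · rw [hb'] at he
          simp only [Bool.false_eq_true, if_false] at he
          exact ⟨pa * p, mul_mem (Subgroup.subset_closure (Or.inl rfl)) hp,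
            he ▸ hPA _ (by omega) p hPp⟩
        · rw [hb'] at he
          simp only [if_true] at he
          exact ⟨pb * p, mul_mem (Subgroup.subset_closure (Or.inr rfl)) hp,
            he ▸ hPB _ (by omega) p hPp⟩
  let f1 : S →* E := (MonoidHom.fst E _).comp S.subtype
  let f2 : S →* Matrix.SpecialLinearGroup (Fin 2) L := (MonoidHom.snd E _).comp S.subtype
  have hφinj : Function.Injective (fun M : M2 => M.map φ) := Matrix.map_injective φ.injective
  have h1inj : Function.Injective f1 := by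
    intro x y h
    obtain ⟨i, hi, hx⟩ := hin _ x.2
    obtain ⟨j, hj, hy⟩ := hin _ y.2
    have h' : (x : E × Matrix.SpecialLinearGroup (Fin 2) L).1 = (y : E × Matrix.SpecialLinearGroup (Fin 2) L).1 := h
    have : i = j := mat_inj hi hj (by rw [← hx.1, ← hy.1, h'])
    subst this
    exact Subtype.ext (Prod.ext h' (Subtype.ext (hx.2.trans hy.2.symm)))
  have h2inj : Function.Injective f2 := by
    intro x y h
    obtain ⟨i, hi, hx⟩ := hin _ x.2
    obtain ⟨j, hj, hy⟩ := hin _ y.2
    have h' : (x : E × Matrix.SpecialLinearGroup (Fin 2) L).2 = (y : E × Matrix.SpecialLinearGroup (Fin 2) L).2 := h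
    have : i = j := mat2_inj hi hj (hφinj (by
      show (mat2 i).map φ = (mat2 j).map φ
      rw [← hx.2, ← hy.2, h']))
    subst this
    exact Subtype.ext (Prod.ext (rep7_injective (hx.1.trans hy.1.symm)) h')
  have hcard : 504 ≤ Nat.card S := by
    choose p hp hPp using hreach
    let e : Fin 504 → S := fun i => ⟨p i i.2, hp i i.2⟩
    have : Function.Injective e := fun i j h => by
      have h' : p i i.2 = p j j.2 := congrArg Subtype.val h
      exact Fin.ext (mat_inj i.2 j.2 (by rw [← (hPp i i.2).1, ← (hPp j j.2).1, h']))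
    simpa using Nat.card_le_card_of_injective e this
  have hS504 : Nat.card S = 504 := le_antisymm
    ((Nat.card_le_card_of_injective f2 h2inj).trans (card_SL2 hL)) hcard
  have h2bij : Function.Bijective f2 :=
    (Nat.bijective_iff_injective_and_card f2).mpr ⟨h2inj,
      le_antisymm (Nat.card_le_card_of_injective f2 h2inj) (by rw [hS504]; exact card_SL2 hL)⟩
  set D := f1.range with hD
  have hmemD : ∀ (x : E) (i : ℕ), i < 504 → rep7 x = mat i → x ∈ D := by
    intro x i hi hx
    obtain ⟨p, hp, hPp⟩ := hreach i hi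
    exact ⟨⟨p, hp⟩, rep7_injective (hPp.1.trans hx.symm)⟩
  have hDgen : D = Subgroup.closure {a0, b0} := by
    rw [hD, MonoidHom.range_comp, Subgroup.range_subtype, hS, MonoidHom.map_closure, Set.image_pair]
    rfl
  obtain ⟨hc, hca, hcb, hcA, hcB⟩ := conj_ok
  set c := g ⟨_, hc⟩ with hcdef
  have hnorm : c ∈ Subgroup.normalizer (D : Set E) := by
    have hle : D.map (MulAut.conj c).toMonoidHom ≤ D := by
      rw [hDgen, MonoidHom.map_closure, Subgroup.closure_le, ← hDgen]
      rintro y ⟨x, hx, rfl⟩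
      have hh : ∀ (x : E) (i : ℕ) (j : ℕ), j < 504 → rep7 x = mat i →
          wm outer * mat i = mat j * wm outer → MulAut.conj c x ∈ D := by
        intro x i j hj hx h
        refine hmemD _ j hj ?_
        rw [← hg ⟨_, hc⟩, ← hx] at h
        exact conj_of_semiconj rep7 c x h
      rcases hx with rfl | rfl
      · exact hh _ _ _ hca ha hcA
      · exact hh _ _ _ hcb hb hcB
    have heq := Subgroup.eq_of_le_of_card_ge hle
      (by rw [Subgroup.card_map_of_injective (MulAut.conj c).injective])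
    rw [Subgroup.mem_normalizer_iff_conj_image_eq]
    exact congrArg SetLike.coe heq
  have htop : D ⊔ Subgroup.zpowers c = ⊤ := by
    rw [eq_top_iff]
    intro x _
    have hx : x.1 ∈ twistedG2 (ZMod 3) 1 := x.2
    have hsub : twistedG2 (ZMod 3) 1 ≤ (D ⊔ Subgroup.zpowers c).map (twistedG2 (ZMod 3) 1).subtype := by
      conv_lhs => rw [twistedG2, ChevalleyDatum.genSubgroup]
      rw [Subgroup.closure_le]
      rintro y ⟨w, ⟨t, u, v, hw⟩, hy⟩
      obtain ⟨n, hn⟩ : ∃ n : Fin 54, w = gword n := by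
        have := t.val_lt; have := u.val_lt; have := v.val_lt
        rcases hw with rfl | rfl
        · exact ⟨⟨_, by omega⟩, (params_surj t u v).1⟩
        · exact ⟨⟨_, by omega⟩, (params_surj t u v).2⟩
      subst hn
      have hymem : y ∈ twistedG2 (ZMod 3) 1 := Subgroup.subset_closure ⟨_, mem_words n, hy⟩
      refine ⟨⟨y, hymem⟩, ?_, rfl⟩
      have hyr : rep7 ⟨y, hymem⟩ = wm n := by
        show (y : Matrix chevG2.Idx chevG2.Idx (ZMod 3)).submatrix CfsgLib.G23.idx CfsgLib.G23.idx = _
        rw [hy]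
        exact (wordMat_good _ (word_ok n)).2
      obtain ⟨hq, hw'⟩ := witness_ok n
      set q := witness.getD n.val (0, 0)
      obtain ⟨p, hp, hPp⟩ := hreach q.1 hq
      have hd : p.1 ∈ D := ⟨⟨p, hp⟩, rfl⟩
      have hd' : p.1 ∈ D ⊔ Subgroup.zpowers c := Subgroup.mem_sup_left hd
      have hc' : c ∈ D ⊔ Subgroup.zpowers c := Subgroup.mem_sup_right (Subgroup.mem_zpowers c)
      dsimp only at hw'
      rw [← hyr, ← hg ⟨_, hc⟩, ← hcdef, ← hPp.1] at hw'
      simp only [← map_mul] at hw'
      split_ifs at hw' with h0 h1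
      · rw [rep7_injective hw']; exact hd'
      · rw [rep7_injective hw']; exact mul_mem hd' hc'
      · rw [rep7_injective hw']; exact mul_mem hd' (mul_mem hc' hc')
    obtain ⟨y, hy, hyx⟩ := hsub hx
    rwa [Subtype.ext hyx] at hy
  have hnormal : D.Normal := by
    rw [← Subgroup.normalizer_eq_top_iff, eq_top_iff, ← htop, sup_le_iff, Subgroup.zpowers_le]
    exact ⟨Subgroup.le_normalizer, hnorm⟩
  have hle : commutator E ≤ D := by
    have hq : ∀ x : E ⧸ D, x ∈ Subgroup.zpowers (QuotientGroup.mk' D c) := by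
      intro x
      obtain ⟨x, rfl⟩ := QuotientGroup.mk'_surjective D x
      have hx : x ∈ D ⊔ Subgroup.zpowers c := htop ▸ Subgroup.mem_top x
      have := Subgroup.mem_map_of_mem (QuotientGroup.mk' D) hx
      rwa [Subgroup.map_sup, QuotientGroup.map_mk'_self, bot_sup_eq, MonoidHom.map_zpowers] at this
    rw [commutator_def, Subgroup.commutator_le]
    intro x _ y _
    rw [← QuotientGroup.eq_one_iff (N := D)]
    change QuotientGroup.mk' D ⁅x, y⁆ = 1
    rw [map_commutatorElement, commutatorElement_eq_one_iff_mul_comm]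
    obtain ⟨i, hi⟩ := Subgroup.mem_zpowers_iff.mp (hq (QuotientGroup.mk' D x))
    obtain ⟨j, hj⟩ := Subgroup.mem_zpowers_iff.mp (hq (QuotientGroup.mk' D y))
    rw [← hi, ← hj]
    exact ((Commute.refl _).zpow_zpow i j).eq
  have heq : commutator E = D := by
    refine le_antisymm hle ?_
    rw [hDgen, Subgroup.closure_le, commutator_def]
    rintro x (rfl | rfl) <;>
      exact Subgroup.commutator_mem_commutator (Subgroup.mem_top _) (Subgroup.mem_top _)
  have hcenter : Subgroup.center (Matrix.SpecialLinearGroup (Fin 2) L) = ⊥ := by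
    rw [← Subgroup.card_eq_one, CfsgLib.SLCard.card_SL_center (by norm_num), hL]
    rfl
  let e1 : S ≃* D := MonoidHom.ofInjective h1inj
  let e2 : S ≃* Matrix.SpecialLinearGroup (Fin 2) L := MulEquiv.ofBijective f2 h2bij
  let e3 : Matrix.ProjectiveSpecialLinearGroup (Fin 2) L ≃* Matrix.SpecialLinearGroup (Fin 2) L :=
    (QuotientGroup.quotientMulEquivOfEq hcenter).trans QuotientGroup.quotientBot
  refine ⟨by rw [heq, ← Nat.card_congr e1.toEquiv, hS504], ⟨?_⟩⟩
  exact (MulEquiv.subgroupCongr heq).trans (e1.symm.trans (e2.trans e3.symm))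

end CfsgLib.Ree3
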